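import Groth.Agent.SmLoc49.Scheme
import Groth.Agent.AlgStLib.OpenSubChart
import Groth.Agent.AlgStLib.LocQInst
import Groth.Agent.AlgStLib.Charts

/-!
# The largest open substack on which a functor is smooth
-/

set_option backward.isDefEq.respectTransparency false
set_option backward.isDefEq.respectTransparency.types false
set_option autoImplicit false

universe u

open CategoryTheory CategoryTheory.Functor CategoryTheory.Limits AlgebraicGeometry Opposite AlgSp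
open Groth.Agent.FibBase Groth.Agent.AlgSpLib Groth.Agent.AlgStLib

namespace Groth.Agent.SmLoc49

variable {S : Scheme.{u}} {𝒳 𝒴 𝒳' 𝒴' : AlgSt.Cat S}

theorem locP_yon_map' {U V : Over S} {k : U ⟶ V} (h : Smooth k.left) : LocP @Smooth ((yon S).map k) :=
  locP_of_repWith ((repWith_yon_map_iff _ k).2 h)

local notation "K₀" => Scheme.fppfPrecoverage

theorem ofChart_congr {U : Over S} {x x' : FibCat.overCat U ⥤ᵇ 𝒳} (e : x ≅ x') (t : ↥U.left) :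
    AlgSt.Points.ofChart x t = AlgSt.Points.ofChart x' t := by
  rw [ofChart_eq_map, ofChart_eq_map, pts_map_congr e]

/-- A smooth surjective chart of the target and one of the base change to it. -/
structure Chart (f : 𝒳 ⥤ᵇ 𝒴) where
  V : Over S
  U : Over S
  y : FibCat.overCat V ⥤ᵇ 𝒴
  c : FibCat.overCat U ⥤ᵇ FibCat.fp f y
  h : U ⟶ V
  i : BasedFunctor.comp c (FibCat.fpSnd f y) ≅ AlgSt.overMap h
  hy : AlgSt.RepByAlgSpWith (LocP @Smooth) y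
  hy' : AlgSt.RepByAlgSpWith IsSurjectiveMor y
  hc : AlgSt.RepByAlgSpWith (LocP @Smooth) c
  hc' : AlgSt.RepByAlgSpWith IsSurjectiveMor c

theorem exists_chart (h𝒳 : AlgSt.IsAlgStack K₀ 𝒳) (h𝒴 : AlgSt.IsAlgStack K₀ 𝒴) (f : 𝒳 ⥤ᵇ 𝒴) :
    Nonempty (Chart f) := by
  obtain ⟨V, y, hy, hy'⟩ := id h𝒴.atlas
  obtain ⟨U, c, hc, hc'⟩ := exists_atlas_fp h𝒳 (isAlgStack_overCat V) h𝒴 f y
  obtain ⟨h, ⟨i⟩⟩ := exists_mapB (BasedFunctor.comp c (FibCat.fpSnd f y))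
  exact ⟨⟨V, U, y, c, h, i.symm, hy, hy', hc, hc'⟩⟩

variable {f : 𝒳 ⥤ᵇ 𝒴} (C : Chart f)

/-- The chart of the source. -/
abbrev Chart.x : FibCat.overCat C.U ⥤ᵇ 𝒳 := BasedFunctor.comp C.c (FibCat.fpFst f C.y)

theorem Chart.smooth_x (h𝒳 : AlgSt.IsAlgStack K₀ 𝒳) (h𝒴 : AlgSt.IsAlgStack K₀ 𝒴) :
    AlgSt.RepByAlgSpWith (LocP @Smooth) C.x :=
  repByAlgSpWith_locP_comp (isFibGrpd_overCat C.U)
    (fp_isFibGrpd h𝒳.isStack.1 (isFibGrpd_overCat C.V) h𝒴.isStack.1) C.hc (repByAlgSpWith_fpFst f C.hy)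

theorem Chart.surjective_x (h𝒳 : AlgSt.IsAlgStack K₀ 𝒳) (h𝒴 : AlgSt.IsAlgStack K₀ 𝒴) :
    Function.Surjective (AlgSt.Points.ofChart C.x) :=
  ofChart_surjective h𝒳.isStack.1 (repByAlgSpWith_isSurjectiveMor_comp (isFibGrpd_overCat C.U)
    (fp_isFibGrpd h𝒳.isStack.1 (isFibGrpd_overCat C.V) h𝒴.isStack.1) C.hc' (repByAlgSpWith_fpFst f C.hy'))

/-- An open of the chart as a scheme over the base. -/
abbrev Chart.res (O : C.U.left.Opens) : Over S := Over.mk (O.ι ≫ C.U.hom)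

abbrev Chart.resι (O : C.U.left.Opens) : C.res O ⟶ C.U := Over.homMk O.ι rfl

variable {T : Set (AlgSt.Points 𝒳)}

theorem Chart.ptsIn_res (h𝒳 : AlgSt.IsAlgStack K₀ 𝒳) (O : C.U.left.Opens)
    (hOT : ∀ u, u ∈ O → AlgSt.Points.ofChart C.x u ∈ T) (a : Over (C.res O)) :
    PtsIn T (C.x.obj ((AlgSt.overMap (C.resι O)).obj a)) :=
  (ptsIn_chart_iff h𝒳.isStack.1 C.x _).2 fun w => hOT _ (a.hom.left w).2

/-- The chart of an open substack. -/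
def Chart.lift (h𝒳 : AlgSt.IsAlgStack K₀ 𝒳) (O : C.U.left.Opens)
    (hOT : ∀ u, u ∈ O → AlgSt.Points.ofChart C.x u ∈ T) :
    FibCat.overCat (C.res O) ⥤ᵇ AlgSt.fullSub 𝒳 (PtsIn T) where
  toFunctor := ObjectProperty.lift _ (BasedFunctor.comp (AlgSt.overMap (C.resι O)) C.x).toFunctor
    (C.ptsIn_res h𝒳 O hOT)
  w := (BasedFunctor.comp (AlgSt.overMap (C.resι O)) C.x).w

theorem isMono_incl (h𝒳 : AlgSt.IsAlgStack K₀ 𝒳) (hT : IsOpen T) :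
    AlgSt.IsMono (AlgSt.subIncl 𝒳 (PtsIn T)) :=
  isMono_of_isImm (repByAlgSpWith_mono
    (fun _ _ _ h => repWith_mono (fun _ _ g (_ : IsOpenImmersion g) => inferInstanceAs (IsImmersion g)) _ h)
    (isOpenImm_ptsIn h𝒳 hT))

theorem smooth_overMap {U : Over S} (O : U.left.Opens) :
    AlgSt.RepByAlgSpWith (LocP @Smooth)
      (AlgSt.overMap (Over.homMk O.ι rfl : Over.mk (O.ι ≫ U.hom) ⟶ U) : _ ⥤ᵇ (FibCat.overCat U : AlgSt.Cat S)) :=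
  repByAlgSpWith_overMap stableBC_locP (locP_yon_map' (inferInstanceAs (Smooth O.ι) : Smooth (Over.homMk O.ι rfl : Over.mk (O.ι ≫ U.hom) ⟶ U).left))

theorem Chart.smooth_lift (h𝒳 : AlgSt.IsAlgStack K₀ 𝒳) (h𝒴 : AlgSt.IsAlgStack K₀ 𝒴) (hT : IsOpen T)
    (O : C.U.left.Opens) (hOT : ∀ u, u ∈ O → AlgSt.Points.ofChart C.x u ∈ T) :
    AlgSt.RepByAlgSpWith (LocP @Smooth) (C.lift h𝒳 O hOT) :=
  repByAlgSpWith_of_comp stableBC_locP (cancels_mono stableBC_locP) (isMono_incl h𝒳 hT)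
    (repByAlgSpWith_of_iso (Iso.refl (BasedFunctor.comp (AlgSt.overMap (C.resι O)) C.x))
      (repByAlgSpWith_locP_comp (isFibGrpd_overCat _) (isFibGrpd_overCat _) (smooth_overMap O)
        (C.smooth_x h𝒳 h𝒴)))

theorem Chart.surjective_lift (h𝒳 : AlgSt.IsAlgStack K₀ 𝒳) (h𝒴 : AlgSt.IsAlgStack K₀ 𝒴) (hT : IsOpen T)
    (O : C.U.left.Opens) (hOT : ∀ u, u ∈ O → AlgSt.Points.ofChart C.x u ∈ T)
    (hTO : ∀ t ∈ T, ∃ u ∈ O, AlgSt.Points.ofChart C.x u = t) :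
    AlgSt.RepByAlgSpWith IsSurjectiveMor (C.lift h𝒳 O hOT) := by
  have hfg := isFibGrpd_ptsIn h𝒳.isStack.1 T
  refine repByAlgSpWith_surjective_of_isSurjective (isFibGrpd_overCat _) hfg
    (repByAlgSp1_of_repByAlgSpWith (C.smooth_lift h𝒳 h𝒴 hT O hOT)) fun w => ?_
  obtain ⟨u, hu, he⟩ := hTO _ (range_subIncl_ptsIn.subset ⟨w, rfl⟩)
  refine ⟨ptAt _ (⟨u, hu⟩ : O.toScheme), pts_map_injective_of_isMono hfg h𝒳.isStack.1 (isMono_incl h𝒳 hT) ?_⟩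
  rw [← pts_map_comp, ← he, ← ofChart_eq_map]
  exact ofChart_overMap (C.resι O) C.x _

/-- Smoothness on an open substack, read on the chart. -/
theorem Chart.locQ_of_le (h𝒳 : AlgSt.IsAlgStack K₀ 𝒳) (h𝒴 : AlgSt.IsAlgStack K₀ 𝒴) (hT : IsOpen T)
    (O : C.U.left.Opens) (hOT : ∀ u, u ∈ O → AlgSt.Points.ofChart C.x u ∈ T)
    (hTO : ∀ t ∈ T, ∃ u ∈ O, AlgSt.Points.ofChart C.x u = t) (hO : O ≤ smOpen C.h.left) :
    AlgSt.LocQ (LocP @Smooth) (BasedFunctor.comp (AlgSt.subIncl 𝒳 (PtsIn T)) f) :=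
  ⟨C.res O, C.V, C.lift h𝒳 O hOT, C.y, C.resι O ≫ C.h,
    whiskerLeftIso (BasedFunctor.comp (AlgSt.overMap (C.resι O)) C.c) (FibCat.fpIso f C.y) ≪≫
      whiskerRightIso (whiskerLeftIso (AlgSt.overMap (C.resι O)) C.i) C.y ≪≫
      whiskerRightIso (overMapCompIso (C.resι O) C.h) C.y,
    C.smooth_lift h𝒳 h𝒴 hT O hOT, C.surjective_lift h𝒳 h𝒴 hT O hOT hTO, C.hy,
    locP_yon_map' (smooth_of_le_smOpen hO : Smooth (C.resι O ≫ C.h).left)⟩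

theorem Chart.le_of_locQ (h𝒳 : AlgSt.IsAlgStack K₀ 𝒳) (h𝒴 : AlgSt.IsAlgStack K₀ 𝒴) (hT : IsOpen T)
    (O : C.U.left.Opens) (hOT : ∀ u, u ∈ O → AlgSt.Points.ofChart C.x u ∈ T)
    (hQ : AlgSt.LocQ (LocP @Smooth) (BasedFunctor.comp (AlgSt.subIncl 𝒳 (PtsIn T)) f)) :
    O ≤ smOpen C.h.left := by
  let incl := AlgSt.subIncl 𝒳 (PtsIn T)
  have hfg := isFibGrpd_ptsIn h𝒳.isStack.1 T
  let cT : FibCat.overCat (C.res O) ⥤ᵇ FibCat.fp incl (FibCat.fpFst f C.y) :=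
    FibCat.fpLift (C.lift h𝒳 O hOT) (BasedFunctor.comp (AlgSt.overMap (C.resι O)) C.c) (Iso.refl _)
  have hmono : AlgSt.RepByAlgSpWith (MorphismProperty.monomorphisms (Sp S))
      (FibCat.fpSnd incl (FibCat.fpFst f C.y)) := repByAlgSpWith_fpSnd _ (isMono_incl h𝒳 hT)
  have h1 : AlgSt.RepByAlgSpWith (LocP @Smooth) cT :=
    repByAlgSpWith_of_comp stableBC_locP (cancels_mono stableBC_locP) hmono
      (repByAlgSpWith_of_iso (Iso.refl (BasedFunctor.comp (AlgSt.overMap (C.resι O)) C.c))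
        (repByAlgSpWith_locP_comp (isFibGrpd_overCat _) (isFibGrpd_overCat _) (smooth_overMap O) C.hc))
  let c' := BasedFunctor.comp cT (pasteVert incl f C.y)
  have h2 : AlgSt.RepByAlgSpWith (LocP @Smooth) c' :=
    repByAlgSpWith_postcomp (pasteVert_isEquivOver incl f C.y) h1
  let j : BasedFunctor.comp c' (FibCat.fpSnd (BasedFunctor.comp incl f) C.y) ≅ AlgSt.overMap (C.resι O ≫ C.h) :=
    whiskerLeftIso (AlgSt.overMap (C.resι O)) C.i ≪≫ overMapCompIso (C.resι O) C.h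
  have key := (locQS_of_locQ isSmoothLocalST_smooth hfg h𝒴.isStack.1 hQ).scheme c' C.hy h2 j
  exact le_smOpen (locP_yon_map (P := @Smooth) key : Smooth (C.resι O ≫ C.h).left)

/-- The points of the smooth substack. -/
def Chart.smPts : Set (AlgSt.Points 𝒳) := AlgSt.Points.ofChart C.x '' (smOpen C.h.left : Set C.U.left)

theorem Chart.isOpen_smPts (h𝒳 : AlgSt.IsAlgStack K₀ 𝒳) (h𝒴 : AlgSt.IsAlgStack K₀ 𝒴) : IsOpen C.smPts :=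
  isOpenMap_ofChart h𝒳.isStack.1 (repByAlgSpWith_flat_of_smooth (C.smooth_x h𝒳 h𝒴))
    (repByAlgSpWith_lfp_of_smooth (C.smooth_x h𝒳 h𝒴)) _ (smOpen C.h.left).2

theorem Chart.locQ_smPts (h𝒳 : AlgSt.IsAlgStack K₀ 𝒳) (h𝒴 : AlgSt.IsAlgStack K₀ 𝒴) :
    AlgSt.LocQ (LocP @Smooth) (BasedFunctor.comp (AlgSt.subIncl 𝒳 (PtsIn C.smPts)) f) :=
  C.locQ_of_le h𝒳 h𝒴 (C.isOpen_smPts h𝒳 h𝒴) (smOpen C.h.left) (fun u hu => ⟨u, hu, rfl⟩)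
    (fun _ ⟨u, hu, e⟩ => ⟨u, hu, e⟩) le_rfl

theorem Chart.preimage_le (h𝒳 : AlgSt.IsAlgStack K₀ 𝒳) (h𝒴 : AlgSt.IsAlgStack K₀ 𝒴) (hT : IsOpen T)
    (hQ : AlgSt.LocQ (LocP @Smooth) (BasedFunctor.comp (AlgSt.subIncl 𝒳 (PtsIn T)) f)) (u : C.U.left)
    (hu : AlgSt.Points.ofChart C.x u ∈ T) : u ∈ smOpen C.h.left :=
  C.le_of_locQ h𝒳 h𝒴 hT ⟨AlgSt.Points.ofChart C.x ⁻¹' T,
    hT.preimage (continuous_ofChart h𝒳.isStack.1 h𝒳.atlas C.x)⟩ (fun _ h => h) hQ hu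

theorem Chart.maximal (h𝒳 : AlgSt.IsAlgStack K₀ 𝒳) (h𝒴 : AlgSt.IsAlgStack K₀ 𝒴) (Q : 𝒳.obj → Prop)
    (hQ : AlgSt.IsOpenSubstack 𝒳 Q K₀)
    (hQs : AlgSt.LocQ (LocP @Smooth) (BasedFunctor.comp (AlgSt.subIncl 𝒳 Q) f)) (a : 𝒳.obj) (ha : Q a) :
    PtsIn C.smPts a := by
  obtain ⟨T', hT', rfl⟩ : ∃ T' : Set (AlgSt.Points 𝒳), IsOpen T' ∧ Q = PtsIn T' :=
    ⟨_, isOpen_range_of_isOpenImm hQ.2.1 h𝒳 hQ.2.2, eq_ptsIn_range h𝒳 hQ⟩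
  intro p φ
  obtain ⟨u, hu⟩ := C.surjective_x h𝒳 h𝒴 (AlgSt.Points.mk p)
  exact ⟨u, C.preimage_le h𝒳 h𝒴 hT' hQs u (hu ▸ ha p φ), hu⟩

theorem exists_largest (h𝒳 : AlgSt.IsAlgStack K₀ 𝒳) (h𝒴 : AlgSt.IsAlgStack K₀ 𝒴) (f : 𝒳 ⥤ᵇ 𝒴) :
    ∃ Q : 𝒳.obj → Prop, AlgSt.IsOpenSubstack 𝒳 Q K₀ ∧
      AlgSt.LocQ (LocP @Smooth) (BasedFunctor.comp (AlgSt.subIncl 𝒳 Q) f) ∧
      ∀ Q' : 𝒳.obj → Prop, AlgSt.IsOpenSubstack 𝒳 Q' K₀ →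
        AlgSt.LocQ (LocP @Smooth) (BasedFunctor.comp (AlgSt.subIncl 𝒳 Q') f) → ∀ a, Q' a → Q a := by
  obtain ⟨C⟩ := exists_chart h𝒳 h𝒴 f
  exact ⟨_, isOpenSubstack_ptsIn h𝒳 (C.isOpen_smPts h𝒳 h𝒴), C.locQ_smPts h𝒳 h𝒴,
    fun Q' hQ' hQs a ha => C.maximal h𝒳 h𝒴 Q' hQ' hQs a ha⟩

/-- Charts compatible along a functor move the largest smooth open substack by inverse image. -/
theorem transport (h𝒳 : AlgSt.IsAlgStack K₀ 𝒳) (h𝒴 : AlgSt.IsAlgStack K₀ 𝒴) (h𝒳' : AlgSt.IsAlgStack K₀ 𝒳')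
    (h𝒴' : AlgSt.IsAlgStack K₀ 𝒴') {f' : 𝒳' ⥤ᵇ 𝒴'} (C' : Chart f') (G : 𝒳' ⥤ᵇ 𝒳) (p : C'.U ⟶ C.U)
    (hp : BasedFunctor.comp C'.x G ≅ BasedFunctor.comp (AlgSt.overMap p) C.x)
    (hs : smOpen C'.h.left = p.left ⁻¹ᵁ smOpen C.h.left)
    (Q : 𝒳.obj → Prop) (hQ₁ : AlgSt.IsOpenSubstack 𝒳 Q K₀)
    (hQ₂ : AlgSt.LocQ (LocP @Smooth) (BasedFunctor.comp (AlgSt.subIncl 𝒳 Q) f))
    (hQ₃ : ∀ Q' : 𝒳.obj → Prop, AlgSt.IsOpenSubstack 𝒳 Q' K₀ →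
      AlgSt.LocQ (LocP @Smooth) (BasedFunctor.comp (AlgSt.subIncl 𝒳 Q') f) → ∀ a, Q' a → Q a) :
    AlgSt.IsOpenSubstack 𝒳' (fun a ↦ Q (G.obj a)) K₀ ∧
      AlgSt.LocQ (LocP @Smooth) (BasedFunctor.comp (AlgSt.subIncl 𝒳' (fun a ↦ Q (G.obj a))) f') ∧
      ∀ Q' : 𝒳'.obj → Prop, AlgSt.IsOpenSubstack 𝒳' Q' K₀ →
        AlgSt.LocQ (LocP @Smooth) (BasedFunctor.comp (AlgSt.subIncl 𝒳' Q') f') → ∀ a, Q' a → Q (G.obj a) := by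
  have hQ : Q = PtsIn C.smPts := funext fun a => propext
    ⟨C.maximal h𝒳 h𝒴 Q hQ₁ hQ₂ a,
      hQ₃ _ (isOpenSubstack_ptsIn h𝒳 (C.isOpen_smPts h𝒳 h𝒴)) (C.locQ_smPts h𝒳 h𝒴) a⟩
  let T' : Set (AlgSt.Points 𝒳') := AlgSt.Points.map G ⁻¹' C.smPts
  have hG : (fun a ↦ Q (G.obj a)) = PtsIn T' := funext fun a => propext
    ⟨fun ha q φ => (hQ ▸ ha : PtsIn C.smPts (G.obj a)) (q.map G) (G.map φ), fun ha => by
      have := ptsIn_map (T := C.smPts) h𝒳.isStack.1 (isFibGrpd_ptsIn h𝒳'.isStack.1 T')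
        (BasedFunctor.comp (AlgSt.subIncl 𝒳' (PtsIn T')) G) (fun w => by
          rw [pts_map_comp]
          exact (range_subIncl_ptsIn (T := T')).subset ⟨w, rfl⟩ : ∀ w, _ ∈ C.smPts) ⟨a, ha⟩
      rw [hQ]
      exact this⟩
  have key : ∀ u', AlgSt.Points.map G (AlgSt.Points.ofChart C'.x u') = AlgSt.Points.ofChart C.x (p.left u') :=
    fun u' => (map_ofChart G C'.x u').trans ((ofChart_congr hp u').trans (ofChart_overMap p C.x u'))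
  have hT' : IsOpen T' :=
    (C.isOpen_smPts h𝒳 h𝒴).preimage (continuous_pts_map h𝒳.isStack.1 h𝒳.atlas G)
  have hmem : ∀ u', AlgSt.Points.ofChart C'.x u' ∈ T' ↔ u' ∈ smOpen C'.h.left := fun u' => by
    rw [hs]
    show AlgSt.Points.map G (AlgSt.Points.ofChart C'.x u') ∈ C.smPts ↔ p.left u' ∈ smOpen C.h.left
    rw [key]
    exact ⟨C.preimage_le h𝒳 h𝒴 (C.isOpen_smPts h𝒳 h𝒴) (C.locQ_smPts h𝒳 h𝒴) _, fun h => ⟨_, h, rfl⟩⟩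
  rw [hG]
  refine ⟨isOpenSubstack_ptsIn h𝒳' hT', C'.locQ_of_le h𝒳' h𝒴' hT' _ (fun u => (hmem u).2) (fun t ht => ?_) le_rfl,
    fun Q' hQ' hQs a ha => ?_⟩
  · obtain ⟨u, rfl⟩ := C'.surjective_x h𝒳' h𝒴' t
    exact ⟨u, (hmem u).1 ht, rfl⟩
  · show Q (G.obj a)
    refine (congrFun hG a).symm.le (fun q φ => ?_)
    obtain ⟨u, hu, e⟩ := C'.maximal h𝒳' h𝒴' Q' hQ' hQs a ha q φ
    exact e ▸ (hmem u).2 hu

end Groth.Agent.SmLoc49
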