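import Groth.Agent.SmLoc49.Stack

/-!
# The smooth substack under smooth composition and flat base change
-/

set_option backward.isDefEq.respectTransparency false
set_option backward.isDefEq.respectTransparency.types false
set_option autoImplicit false

universe u

open CategoryTheory CategoryTheory.Functor CategoryTheory.Limits AlgebraicGeometry Opposite AlgSp
open Groth.Agent.FibBase Groth.Agent.AlgSpLib Groth.Agent.AlgStLib

namespace Groth.Agent.SmLoc49

variable {S : Scheme.{u}} {𝒳 𝒴 𝒳' 𝒴' : AlgSt.Cat S}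

local notation "K₀" => Scheme.fppfPrecoverage

/-- A chart of a composite with a smooth functor. -/
theorem exists_chart_comp (h𝒳 : AlgSt.IsAlgStack K₀ 𝒳) (h𝒴 : AlgSt.IsAlgStack K₀ 𝒴)
    (h𝒳' : AlgSt.IsAlgStack K₀ 𝒳') {g : 𝒳' ⥤ᵇ 𝒳} (hg : AlgSt.LocQ (LocP @Smooth) g) {f : 𝒳 ⥤ᵇ 𝒴}
    (C : Chart f) :
    ∃ (C' : Chart (BasedFunctor.comp g f)) (p : C'.U ⟶ C.U),
      Nonempty (BasedFunctor.comp C'.x g ≅ BasedFunctor.comp (AlgSt.overMap p) C.x) ∧
        smOpen C'.h.left = p.left ⁻¹ᵁ smOpen C.h.left := by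
  obtain ⟨U', c', hc, hc'⟩ := exists_atlas_fp h𝒳' (isAlgStack_overCat C.U) h𝒳 g C.x
  obtain ⟨p, ⟨ip⟩⟩ := exists_mapB (BasedFunctor.comp c' (FibCat.fpSnd g C.x))
  have hps : Smooth p.left := locP_yon_map (P := @Smooth)
    ((locQS_of_locQ isSmoothLocalST_smooth h𝒳'.isStack.1 h𝒳.isStack.1 hg).scheme c' (C.smooth_x h𝒳 h𝒴) hc ip.symm)
  obtain ⟨t, ht, -, ⟨jt⟩⟩ := isEquivOver_inv (pasteHor_isEquivOver g C.c (FibCat.fpFst f C.y))
  let d := FibCat.fpFst (FibCat.fpSnd g (FibCat.fpFst f C.y)) C.c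
  let e := pasteVert g f C.y
  let c'' : FibCat.overCat U' ⥤ᵇ FibCat.fp (BasedFunctor.comp g f) C.y :=
    BasedFunctor.comp (BasedFunctor.comp (BasedFunctor.comp c' t) d) e
  have hgd := fp_isFibGrpd (F := FibCat.fpSnd g (FibCat.fpFst f C.y)) (G := C.c)
    (fp_isFibGrpd h𝒳'.isStack.1 (fp_isFibGrpd h𝒳.isStack.1 (isFibGrpd_overCat C.V) h𝒴.isStack.1) h𝒳.isStack.1)
    (isFibGrpd_overCat C.U) (fp_isFibGrpd h𝒳.isStack.1 (isFibGrpd_overCat C.V) h𝒴.isStack.1)
  let C' : Chart (BasedFunctor.comp g f) :=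
    { V := C.V
      U := U'
      y := C.y
      c := c''
      h := p ≫ C.h
      i := whiskerRightIso (whiskerLeftIso (BasedFunctor.comp c' t)
          (FibCat.fpIso (FibCat.fpSnd g (FibCat.fpFst f C.y)) C.c)) (FibCat.fpSnd f C.y) ≪≫
        whiskerRightIso (whiskerLeftIso c' jt)
          (BasedFunctor.comp (FibCat.fpSnd g C.x) (BasedFunctor.comp C.c (FibCat.fpSnd f C.y))) ≪≫
        whiskerRightIso ip.symm (BasedFunctor.comp C.c (FibCat.fpSnd f C.y)) ≪≫
        whiskerLeftIso (AlgSt.overMap p) C.i ≪≫ overMapCompIso p C.h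
      hy := C.hy
      hy' := C.hy'
      hc := repByAlgSpWith_postcomp (pasteVert_isEquivOver g f C.y)
        (repByAlgSpWith_locP_comp (isFibGrpd_overCat U') hgd (repByAlgSpWith_postcomp ht hc)
          (repByAlgSpWith_fpFst _ C.hc))
      hc' := repByAlgSpWith_postcomp (pasteVert_isEquivOver g f C.y)
        (repByAlgSpWith_isSurjectiveMor_comp (isFibGrpd_overCat U') hgd (repByAlgSpWith_postcomp ht hc')
          (repByAlgSpWith_fpFst _ C.hc')) }
  refine ⟨C', p, ⟨?_⟩, smOpen_comp p.left C.h.left⟩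
  exact whiskerRightIso (whiskerLeftIso c' jt) (BasedFunctor.comp (FibCat.fpFst g C.x) g) ≪≫
    whiskerLeftIso c' (FibCat.fpIso g C.x) ≪≫ whiskerRightIso ip.symm C.x

/-- A chart of a base change. -/
theorem exists_chart_fp (h𝒳 : AlgSt.IsAlgStack K₀ 𝒳) (h𝒴 : AlgSt.IsAlgStack K₀ 𝒴)
    (h𝒴' : AlgSt.IsAlgStack K₀ 𝒴') {y : 𝒴' ⥤ᵇ 𝒴} (hy : AlgSt.LocQ (LocP @Flat) y) {f : 𝒳 ⥤ᵇ 𝒴}
    (hfp : AlgSt.LocQ (LocP @LocallyOfFinitePresentation) y ∨
      AlgSt.LocQ (LocP @LocallyOfFinitePresentation) f)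
    (C : Chart f) :
    ∃ (C' : Chart (FibCat.fpFst y f)) (p : C'.U ⟶ C.U),
      Nonempty (BasedFunctor.comp C'.x (FibCat.fpSnd y f) ≅ BasedFunctor.comp (AlgSt.overMap p) C.x) ∧
        smOpen C'.h.left = p.left ⁻¹ᵁ smOpen C.h.left := by
  obtain ⟨V', d, hd, hd'⟩ := exists_atlas_fp h𝒴' (isAlgStack_overCat C.V) h𝒴 y C.y
  obtain ⟨k, ⟨ik⟩⟩ := exists_mapB (BasedFunctor.comp d (FibCat.fpSnd y C.y))
  have hkflat : Flat k.left := locP_yon_map (P := @Flat)
    ((locQS_of_locQ isSmoothLocalST_flat h𝒴'.isStack.1 h𝒴.isStack.1 hy).scheme d C.hy hd ik.symm)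
  have hkfp : LocallyOfFinitePresentation k.left ∨ LocallyOfFinitePresentation C.h.left :=
    hfp.imp (fun h => locP_yon_map (P := @LocallyOfFinitePresentation)
        ((locQS_of_locQ isSmoothLocalST_lfp h𝒴'.isStack.1 h𝒴.isStack.1 h).scheme d C.hy hd ik.symm))
      (fun h => locP_yon_map (P := @LocallyOfFinitePresentation)
        ((locQS_of_locQ isSmoothLocalST_lfp h𝒳.isStack.1 h𝒴.isStack.1 h).scheme C.c C.hy C.hc C.i))
  let y' := BasedFunctor.comp d (FibCat.fpFst y C.y)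
  let β : BasedFunctor.comp y' y ≅ BasedFunctor.comp (AlgSt.overMap k) C.y :=
    whiskerLeftIso d (FibCat.fpIso y C.y) ≪≫ whiskerRightIso ik.symm C.y
  have sq := IsPullback.of_hasPullback k C.h
  have hD := sliceCone_isEquivOver sq
  let D₀ := sliceCone (pullback.fst k C.h) (pullback.snd k C.h) k C.h sq.w
  let cs := BasedFunctor.comp C.c (fpSwap f C.y)
  let m₀ := fpMap (F := AlgSt.overMap k) (G := BasedFunctor.comp cs (FibCat.fpFst C.y f)) (F' := AlgSt.overMap k)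
    (G' := AlgSt.overMap C.h) (a := BasedFunctor.id _) (b := BasedFunctor.id _) (c := BasedFunctor.id _)
    (Iso.refl _) C.i.symm
  have : (BasedFunctor.id (FibCat.overCat C.V : AlgSt.Cat S)).toFunctor.Full := inferInstanceAs (𝟭 _).Full
  have : (BasedFunctor.id (FibCat.overCat C.V : AlgSt.Cat S)).toFunctor.Faithful := inferInstanceAs (𝟭 _).Faithful
  have : (BasedFunctor.id 𝒴).toFunctor.Full := inferInstanceAs (𝟭 _).Full
  have : (BasedFunctor.id 𝒴).toFunctor.Faithful := inferInstanceAs (𝟭 _).Faithful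
  obtain ⟨t, ht, -, ⟨jt⟩⟩ := isEquivOver_inv (pasteHor_isEquivOver (AlgSt.overMap k) cs (FibCat.fpFst C.y f))
  let q := FibCat.fpFst (FibCat.fpSnd (AlgSt.overMap k) (FibCat.fpFst C.y f)) cs
  let m₁ := fpMap (F := BasedFunctor.comp y' y) (G := f) (F' := BasedFunctor.comp (AlgSt.overMap k) C.y) (G' := f)
    (a := BasedFunctor.id _) (b := BasedFunctor.id _) (c := BasedFunctor.id _) β (Iso.refl _)
  obtain ⟨r, hr, -, ⟨jr⟩⟩ := isEquivOver_inv (pasteVert_isEquivOver y' y f)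
  let E₁ := BasedFunctor.comp D₀ (BasedFunctor.comp m₀ t)
  have hE₁ : FibCat.IsEquivOver E₁ :=
    isEquivOver_comp hD (isEquivOver_comp (fpMap_isEquivOver _ _ isEquivOver_id isEquivOver_id) ht)
  let E₂ := BasedFunctor.comp (pasteVert (AlgSt.overMap k) C.y f)
    (BasedFunctor.comp m₁ (BasedFunctor.comp r (fpSwap y' (FibCat.fpFst y f))))
  have hE₂ : FibCat.IsEquivOver E₂ :=
    isEquivOver_comp (pasteVert_isEquivOver _ _ _)
      (isEquivOver_comp (fpMap_isEquivOver _ _ isEquivOver_id isEquivOver_id)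
        (isEquivOver_comp hr (fpSwap_isEquivOver _ _)))
  have hfst : FibCat.IsFibGrpd (FibCat.fp C.y f).p :=
    fp_isFibGrpd (isFibGrpd_overCat C.V) h𝒳.isStack.1 h𝒴.isStack.1
  have hy'g := fp_isFibGrpd h𝒴'.isStack.1 (isFibGrpd_overCat C.V) h𝒴.isStack.1 (F := y) (G := C.y)
  have hcs : AlgSt.RepByAlgSpWith (LocP @Smooth) cs := repByAlgSpWith_postcomp (fpSwap_isEquivOver _ _) C.hc
  have hcs' : AlgSt.RepByAlgSpWith IsSurjectiveMor cs := repByAlgSpWith_postcomp (fpSwap_isEquivOver _ _) C.hc'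
  let E₁' := BasedFunctor.comp E₁ q
  let C' : Chart (FibCat.fpFst y f) :=
    { V := V'
      U := pullback k C.h
      y := y'
      c := BasedFunctor.comp E₁' E₂
      h := pullback.fst k C.h
      i := whiskerRightIso (whiskerLeftIso
          (BasedFunctor.comp E₁' (BasedFunctor.comp (pasteVert (AlgSt.overMap k) C.y f) m₁)) jr)
          (FibCat.fpFst (BasedFunctor.comp y' y) f) ≪≫
        whiskerRightIso (whiskerLeftIso (BasedFunctor.comp D₀ m₀) jt)
          (FibCat.fpFst (AlgSt.overMap k) (BasedFunctor.comp cs (FibCat.fpFst C.y f)))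
      hy := repByAlgSpWith_locP_comp (isFibGrpd_overCat V') hy'g hd (repByAlgSpWith_fpFst y C.hy)
      hy' := repByAlgSpWith_isSurjectiveMor_comp (isFibGrpd_overCat V') hy'g hd' (repByAlgSpWith_fpFst y C.hy')
      hc := repByAlgSpWith_postcomp hE₂ (repByAlgSpWith_precomp hE₁ (repByAlgSpWith_fpFst _ hcs))
      hc' := repByAlgSpWith_postcomp hE₂ (repByAlgSpWith_precomp hE₁ (repByAlgSpWith_fpFst _ hcs')) }
  refine ⟨C', pullback.snd k C.h, ⟨?_⟩, ?_⟩
  · exact whiskerRightIso (whiskerLeftIso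
        (BasedFunctor.comp E₁' (BasedFunctor.comp (pasteVert (AlgSt.overMap k) C.y f) m₁)) jr)
        (FibCat.fpSnd (BasedFunctor.comp y' y) f) ≪≫
      whiskerRightIso (whiskerLeftIso E₁ (FibCat.fpIso (FibCat.fpSnd (AlgSt.overMap k) (FibCat.fpFst C.y f)) cs))
        (FibCat.fpSnd C.y f) ≪≫
      whiskerRightIso (whiskerLeftIso (BasedFunctor.comp D₀ m₀) jt)
        (BasedFunctor.comp (FibCat.fpSnd (AlgSt.overMap k) (BasedFunctor.comp cs (FibCat.fpFst C.y f)))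
          (BasedFunctor.comp cs (FibCat.fpSnd C.y f)))
  · exact smOpen_baseChange C.h.left k.left _ _ ((sq.map (Over.forget S)).flip) hkfp

end Groth.Agent.SmLoc49
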