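import Groth.Agent.MorLib.SmoothLocus
import Groth.Agent.SrcDescent.LocalAtSource
import Groth.Agent.SrcDescent.SchemeFppf

/-!
# The largest open on which a morphism of schemes is smooth
-/

set_option autoImplicit false

universe u

open CategoryTheory Limits AlgebraicGeometry TopologicalSpace

namespace Groth.Agent.SmLoc49

variable {U U' V V' : Scheme.{u}}

/-- The union of the opens on which `h` is smooth. -/
def smOpen (h : U ⟶ V) : U.Opens := sSup {O : U.Opens | Smooth (O.ι ≫ h)}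

theorem le_smOpen {h : U ⟶ V} {O : U.Opens} (hO : Smooth (O.ι ≫ h)) : O ≤ smOpen h := le_sSup hO

theorem smooth_of_le {h : U ⟶ V} {O O' : U.Opens} (e : O' ≤ O) (hO : Smooth (O.ι ≫ h)) :
    Smooth (O'.ι ≫ h) := by
  rw [← Scheme.homOfLE_ι U e, Category.assoc]
  infer_instance

theorem smooth_smOpen (h : U ⟶ V) : Smooth ((smOpen h).ι ≫ h) := by
  let A := smOpen h
  let ι := {O : U.Opens // Smooth (O.ι ≫ h)}
  have e : ∀ O : ι, O.1 ≤ A := fun O => le_smOpen O.2
  have hcov : ⨆ O : ι, (U.homOfLE (e O)).opensRange = ⊤ := by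
    refine top_le_iff.1 fun x _ => ?_
    obtain ⟨O, hO, hx⟩ := Opens.mem_sSup.1 x.2
    refine Opens.mem_iSup.2 ⟨⟨O, hO⟩, ⟨x.1, hx⟩, ?_⟩
    exact A.ι.isOpenEmbedding.injective (by
      rw [← Scheme.Hom.comp_apply, Scheme.homOfLE_ι]; rfl)
  refine (IsZariskiLocalAtSource.iff_of_iSup_eq_top (P := @Smooth) _ hcov).2 fun O => ?_
  have he : (U.homOfLE (e O)).opensRange.ι ≫ A.ι ≫ h =
      (U.homOfLE (e O)).isoOpensRange.inv ≫ O.1.ι ≫ h := by
    rw [← Scheme.Hom.isoOpensRange_inv_comp (U.homOfLE (e O)), Category.assoc, Scheme.homOfLE_ι_assoc]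
  rw [he]
  have := O.2
  infer_instance

theorem smooth_of_le_smOpen {h : U ⟶ V} {O : U.Opens} (e : O ≤ smOpen h) : Smooth (O.ι ≫ h) :=
  smooth_of_le e (smooth_smOpen h)

/-- A point at which a finitely presented restriction is formally smooth is in the smooth open. -/
theorem mem_smOpen_of_sm {h : U ⟶ V} {O : U.Opens} [LocallyOfFinitePresentation (O.ι ≫ h)] {u : U} (hu : u ∈ O)
    (hs : MorLib.SmoothLoc.SM h u) : u ∈ smOpen h := by
  let f := O.ι ≫ h
  let W : O.toScheme.Opens := f.smoothLocus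
  have hW : Smooth (W.ι ≫ f) := by
    rw [← Scheme.Hom.smoothLocus_eq_top_iff, ← Scheme.Hom.preimage_smoothLocus_eq]
    exact Scheme.Opens.ι_preimage_self W
  have he : (W.ι ≫ O.ι).opensRange.ι ≫ h = (W.ι ≫ O.ι).isoOpensRange.inv ≫ W.ι ≫ f := by
    rw [← Scheme.Hom.isoOpensRange_inv_comp (W.ι ≫ O.ι), Category.assoc, Category.assoc]
  have hsm : Smooth ((W.ι ≫ O.ι).opensRange.ι ≫ h) := by rw [he]; infer_instance
  refine le_smOpen hsm ⟨⟨⟨u, hu⟩, ?_⟩, rfl⟩
  exact (MorLib.SmoothLoc.sm_comp_left O.ι h ⟨u, hu⟩).2 hs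

theorem sm_of_mem {h : U ⟶ V} {u : U} (hu : u ∈ smOpen h) : MorLib.SmoothLoc.SM h u := by
  have := smooth_smOpen h
  rw [show u = (smOpen h).ι ⟨u, hu⟩ from rfl, ← MorLib.SmoothLoc.sm_comp_left]
  exact Scheme.Hom.mem_smoothLocus.1 (by rw [Scheme.Hom.smoothLocus_eq_top]; trivial)

/-- The smooth open of a composite with a smooth morphism. -/
theorem smOpen_comp (g : U' ⟶ U) [Smooth g] (h : U ⟶ V) : smOpen (g ≫ h) = g ⁻¹ᵁ smOpen h := by
  refine le_antisymm (fun u hu => ?_) (le_smOpen ?_)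
  · let W := smOpen (g ≫ h)
    let O : U.Opens := ⟨g '' W, g.isOpenMap _ W.2⟩
    have hle : W ≤ g ⁻¹ᵁ O := fun w hw => ⟨w, hw, rfl⟩
    let p : W.toScheme ⟶ O.toScheme := U'.homOfLE hle ≫ g ∣_ O
    have hp : p ≫ O.ι = W.ι ≫ g := by rw [Category.assoc, morphismRestrict_ι, Scheme.homOfLE_ι_assoc]
    have : Smooth p := by
      have : Smooth (g ∣_ O) := IsZariskiLocalAtTarget.restrict (P := @Smooth) ‹_› O
      infer_instance
    have : Surjective p := ⟨fun o => by
      obtain ⟨w, hw, he⟩ := o.2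
      refine ⟨⟨w, hw⟩, O.ι.isOpenEmbedding.injective ?_⟩
      rw [← Scheme.Hom.comp_apply, hp]
      exact he⟩
    have hs : Smooth (p ≫ O.ι ≫ h) := by
      rw [← Category.assoc, hp, Category.assoc]
      exact smooth_smOpen _
    exact le_smOpen (SrcDescent.smooth_of_smooth_comp p (O.ι ≫ h) hs) ⟨u, hu, rfl⟩
  · have : Smooth (g ∣_ smOpen h) := IsZariskiLocalAtTarget.restrict (P := @Smooth) ‹_› _
    have := smooth_smOpen h
    rw [← Category.assoc, ← morphismRestrict_ι, Category.assoc]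
    infer_instance

/-- The smooth open of a flat base change. -/
theorem smOpen_baseChange (h : U ⟶ V) (g : V' ⟶ V) (h' : U' ⟶ V') (g' : U' ⟶ U) (sq : IsPullback g' h' h g)
    [Flat g] (hfp : LocallyOfFinitePresentation g ∨ LocallyOfFinitePresentation h) :
    smOpen h' = g' ⁻¹ᵁ smOpen h := by
  refine le_antisymm (fun u hu => ?_) (le_smOpen ?_)
  · obtain ⟨O, hO, hgu⟩ : ∃ O : U.Opens, LocallyOfFinitePresentation (O.ι ≫ h) ∧ g' u ∈ O := by
      rcases hfp with hg | hh
      · have : Flat g' := MorphismProperty.of_isPullback sq.flip ‹Flat g›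
        have : LocallyOfFinitePresentation g' := MorphismProperty.of_isPullback sq.flip hg
        let W := smOpen h'
        let O : U.Opens := ⟨g' '' W, g'.isOpenMap _ W.2⟩
        have hle : W ≤ g' ⁻¹ᵁ O := fun w hw => ⟨w, hw, rfl⟩
        let p : W.toScheme ⟶ O.toScheme := U'.homOfLE hle ≫ g' ∣_ O
        have hp : p ≫ O.ι = W.ι ≫ g' := by rw [Category.assoc, morphismRestrict_ι, Scheme.homOfLE_ι_assoc]
        have : Flat (g' ∣_ O) := IsZariskiLocalAtTarget.restrict (P := @Flat) ‹_› O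
        have : LocallyOfFinitePresentation (g' ∣_ O) :=
          IsZariskiLocalAtTarget.restrict (P := @LocallyOfFinitePresentation) ‹_› O
        have : Flat p := inferInstance
        have : LocallyOfFinitePresentation p := inferInstance
        have : Surjective p := ⟨fun o => by
          obtain ⟨w, hw, he⟩ := o.2
          refine ⟨⟨w, hw⟩, O.ι.isOpenEmbedding.injective ?_⟩
          rw [← Scheme.Hom.comp_apply, hp]
          exact he⟩
        have : LocallyOfFinitePresentation (p ≫ O.ι ≫ h) := by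
          rw [← Category.assoc, hp, Category.assoc, sq.w, ← Category.assoc]
          have := smooth_smOpen h'
          infer_instance
        exact ⟨O, SrcDescent.locallyOfFinitePresentation_of_fppf_comp p (O.ι ≫ h), ⟨u, hu, rfl⟩⟩
      · exact ⟨⊤, inferInstance, trivial⟩
    have sq' := (isPullback_morphismRestrict g' O).paste_vert sq
    have : LocallyOfFinitePresentation (O.ι ≫ h) := hO
    have hs : MorLib.SmoothLoc.SM ((g' ⁻¹ᵁ O).ι ≫ h') ⟨u, hgu⟩ :=
      (MorLib.SmoothLoc.sm_comp_left _ h' _).2 (sm_of_mem hu)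
    have := MorLib.SmoothLoc.sm_descend (O.ι ≫ h) g ((g' ⁻¹ᵁ O).ι ≫ h') (g' ∣_ O) sq' ⟨u, hgu⟩ hs
    rw [MorLib.SmoothLoc.sm_comp_left, ← Scheme.Hom.comp_apply, morphismRestrict_ι] at this
    exact mem_smOpen_of_sm (O := O) hgu this
  · exact MorphismProperty.of_isPullback ((isPullback_morphismRestrict g' (smOpen h)).paste_vert sq)
      (smooth_smOpen h)

end Groth.Agent.SmLoc49
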